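import Groth.Agent.UnitsFG.Valuations

/-!
# Units of affine domains modulo algebraic constants are finitely generated
-/

set_option autoImplicit false

universe u

open MvPolynomial

namespace Groth.Agent.UnitsFG

/-- There is a DVR with fraction field `k(x₀, …, x_t)` meeting `k[x₀, …, x_t]` in the constants. -/
theorem exists_dvr_at_infinity (k : Type u) [Field k] (t : ℕ) :
    ∃ (R : Type u) (_ : CommRing R) (_ : IsDomain R) (_ : IsDiscreteValuationRing R)
      (ι : R →+* FractionRing (MvPolynomial (Fin (t + 1)) k)),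
      (letI := ι.toAlgebra; IsFractionRing R (FractionRing (MvPolynomial (Fin (t + 1)) k))) ∧
      ∀ (p : MvPolynomial (Fin (t + 1)) k) (r : R),
        algebraMap _ (FractionRing (MvPolynomial (Fin (t + 1)) k)) p = ι r → ∃ c : k, p = C c := by
  classical
  let P := MvPolynomial (Fin (t + 1)) k
  let T := Localization.Away (X 0 : P)
  let F := FractionRing P
  let u0 : Tˣ := (IsLocalization.Away.algebraMap_isUnit (S := T) (X 0 : P)).unit
  have hu0 : (u0 : T) = algebraMap P T (X 0) := rfl
  let g : Fin (t + 1) → T := fun i => if i = 0 then ↑u0⁻¹ else algebraMap P T (X i) * ↑u0⁻¹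
  let θ : P →ₐ[k] T := aeval g
  have hθ0 : θ (X 0) = ↑u0⁻¹ := (MvPolynomial.aeval_X g 0).trans (if_pos rfl)
  have hθi : ∀ i, i ≠ 0 → θ (X i) = algebraMap P T (X i) * ↑u0⁻¹ := fun i hi => (MvPolynomial.aeval_X g i).trans (if_neg hi)
  let Θ : T →ₐ[k] T := IsLocalization.liftAlgHom (M := Submonoid.powers (X 0 : P)) (f := θ) (by
    rintro ⟨y, n, rfl⟩
    simp only [map_pow, hθ0]
    exact (Units.isUnit _).pow n)
  have hΘ : ∀ p : P, Θ (algebraMap P T p) = θ p := fun p => IsLocalization.lift_eq _ p
  have hΘu : Θ ↑u0⁻¹ = (u0 : T) := by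
    have h1 : Θ ↑u0⁻¹ * ↑u0⁻¹ = 1 := by
      calc Θ ↑u0⁻¹ * ↑u0⁻¹ = Θ ↑u0⁻¹ * Θ (u0 : T) := by rw [hu0, hΘ, hθ0]
        _ = 1 := by rw [← map_mul, Units.inv_mul, map_one]
    calc Θ ↑u0⁻¹ = Θ ↑u0⁻¹ * ↑u0⁻¹ * u0 := by rw [mul_assoc, Units.inv_mul, mul_one]
      _ = (u0 : T) := by rw [h1, one_mul]
  have hinv : ∀ z, Θ (Θ z) = z := by
    have hcomp : (Θ.comp Θ).comp (IsScalarTower.toAlgHom k P T) = IsScalarTower.toAlgHom k P T := by
      refine MvPolynomial.algHom_ext fun i => ?_
      show Θ (Θ (algebraMap P T (X i))) = algebraMap P T (X i)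
      rw [hΘ]
      by_cases hi : i = 0
      · subst hi; rw [hθ0, hΘu, hu0]
      · rw [hθi i hi, map_mul, hΘ, hΘu, hθi i hi, mul_assoc, Units.inv_mul, mul_one]
    have h2 : ((Θ.comp Θ : T →ₐ[k] T) : T →+* T) = RingHom.id T :=
      IsLocalization.ringHom_ext (Submonoid.powers (X 0 : P)) (RingHom.ext fun p => AlgHom.congr_fun hcomp p)
    exact fun z => RingHom.congr_fun h2 z
  have hx0 : (X 0 : P) ≠ 0 := X_ne_zero 0
  have hpow : Submonoid.powers (X 0 : P) ≤ nonZeroDivisors P :=
    powers_le_nonZeroDivisors_of_noZeroDivisors hx0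
  have hu : ∀ y : Submonoid.powers (X 0 : P), IsUnit (algebraMap P F y) := fun y =>
    IsLocalization.map_units F (⟨y.1, hpow y.2⟩ : nonZeroDivisors P)
  let γ : T →+* F := IsLocalization.lift hu
  have hγ : ∀ p : P, γ (algebraMap P T p) = algebraMap P F p := fun p => IsLocalization.lift_eq hu p
  have hγinj : Function.Injective γ :=
    (IsLocalization.lift_injective_iff hu).2 fun x y => by
      have hTinj : Function.Injective (algebraMap P T) := IsLocalization.injective T hpow
      exact ⟨fun h => congrArg _ (hTinj h), fun h => congrArg _ (IsFractionRing.injective P F h)⟩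
  let θF : P →+* F := γ.comp θ.toRingHom
  have hθF : Function.Injective θF := fun a b h => by
    have := congrArg Θ (hγinj h)
    change Θ (θ a) = Θ (θ b) at this
    rw [← hΘ, ← hΘ, hinv, hinv] at this
    exact IsLocalization.injective T hpow this
  let σ : F →+* F := IsFractionRing.lift hθF
  have hσγ : ∀ z : T, σ (γ z) = γ (Θ z) := by
    have h3 : σ.comp γ = γ.comp (Θ : T →+* T) := IsLocalization.ringHom_ext (Submonoid.powers (X 0 : P))
      (RingHom.ext fun p => by
        show σ (γ (algebraMap P T p)) = γ (Θ (algebraMap P T p))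
        rw [hγ, hΘ]
        exact IsFractionRing.lift_algebraMap hθF p)
    exact fun z => RingHom.congr_fun h3 z
  have hσσ : ∀ z, σ (σ z) = z := by
    have : σ.comp σ = RingHom.id F := IsLocalization.ringHom_ext (nonZeroDivisors P) (RingHom.ext fun p => by
      show σ (σ (algebraMap P F p)) = algebraMap P F p
      rw [← hγ, hσγ, hσγ, hinv])
    exact fun z => RingHom.congr_fun this z
  -- the localization at `(X 0)`
  let Q : Ideal P := Ideal.span {X 0}
  have hQ : Q.IsPrime := (Ideal.span_singleton_prime hx0).2 (MvPolynomial.X_prime)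
  let R := Localization.AtPrime Q
  have hQn : Q.primeCompl ≤ nonZeroDivisors P := fun q hq =>
    mem_nonZeroDivisors_of_ne_zero fun h => hq (h ▸ Q.zero_mem)
  have hdom : IsDomain R := IsLocalization.isDomain_localization hQn
  have hmax : IsLocalRing.maximalIdeal R = Ideal.span {algebraMap P R (X 0)} := by
    rw [← Localization.AtPrime.map_eq_maximalIdeal, Ideal.map_span, Set.image_singleton]
  have hdvr : IsDiscreteValuationRing R := by
    have hnf : ¬ IsField R := by
      rw [IsLocalRing.isField_iff_maximalIdeal_eq, hmax, Ideal.span_singleton_eq_bot]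
      exact fun h => hx0 (IsLocalization.injective R hQn (h.trans (map_zero _).symm))
    have : IsNoetherianRing R := IsLocalization.isNoetherianRing Q.primeCompl R inferInstance
    exact ((IsDiscreteValuationRing.TFAE R hnf).out 4 0).1 (by rw [hmax]; exact ⟨_, rfl⟩)
  have hQu : ∀ y : Q.primeCompl, IsUnit (algebraMap P F y) := fun y =>
    IsLocalization.map_units F (⟨y.1, hQn y.2⟩ : nonZeroDivisors P)
  let ι₀ : R →+* F := IsLocalization.lift hQu
  let ι : R →+* F := σ.comp ι₀
  refine ⟨R, inferInstance, hdom, hdvr, ι, ?_, fun p r hpr => ?_⟩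
  · letI := ι.toAlgebra
    have hι₀inj : Function.Injective ι₀ := (IsLocalization.lift_injective_iff hQu).2 fun x y =>
      ⟨fun h => congrArg _ (IsLocalization.injective R hQn h),
        fun h => congrArg _ (IsFractionRing.injective P F h)⟩
    have : FaithfulSMul R F :=
      (faithfulSMul_iff_algebraMap_injective _ _).2 (σ.injective.comp hι₀inj)
    refine IsFractionRing.of_field _ _ fun z => ?_
    obtain ⟨⟨a, s⟩, has⟩ := IsLocalization.surj (nonZeroDivisors P) (σ z)
    refine ⟨algebraMap P R a, algebraMap P R (s : P), ?_⟩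
    show z = σ (ι₀ (algebraMap P R a)) / σ (ι₀ (algebraMap P R (s : P)))
    rw [IsLocalization.lift_eq, IsLocalization.lift_eq, ← map_div₀]
    have hs : algebraMap P F (s : P) ≠ 0 := IsFractionRing.to_map_ne_zero_of_mem_nonZeroDivisors s.2
    rw [show algebraMap P F a / algebraMap P F (s : P) = σ z by rw [div_eq_iff hs]; exact has.symm, hσσ]
  -- the intersection
  obtain ⟨⟨a, s⟩, has⟩ := IsLocalization.surj Q.primeCompl r
  have h1 : γ (θ p) * algebraMap P F s = algebraMap P F a := by
    have e1 : γ (θ p) = ι₀ r := by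
      calc γ (θ p) = σ (algebraMap P F p) := (IsFractionRing.lift_algebraMap hθF p).symm
        _ = σ (σ (ι₀ r)) := by rw [hpr]; rfl
        _ = ι₀ r := hσσ _
    rw [e1, ← IsLocalization.lift_eq (S := R) hQu (s : P), ← map_mul, has, IsLocalization.lift_eq]
  by_contra hp
  have hpd : p.totalDegree ≠ 0 := fun h => hp ⟨_, totalDegree_eq_zero_iff_eq_C.1 h⟩
  set d := p.totalDegree with hd
  -- numerator of `θ p`
  let z : (Fin (t + 1) →₀ ℕ) → P := fun e =>
    C (p.coeff e) * X 0 ^ (d - e.sum fun _ n => n) * ∏ i ∈ (Finset.univ.erase (0 : Fin (t + 1))), X i ^ e i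
  have hθp : θ p * (u0 : T) ^ d = algebraMap P T (∑ e ∈ p.support, z e) := by
    conv_lhs => rw [p.as_sum]
    rw [map_sum, Finset.sum_mul, map_sum]
    refine Finset.sum_congr rfl fun e he => ?_
    have hle : (e.sum fun _ n => n) ≤ d := le_totalDegree he
    rw [show θ (monomial e (p.coeff e)) = algebraMap k T (p.coeff e) * ∏ i, g i ^ e i by
      show aeval g (monomial e (p.coeff e)) = _
      rw [aeval_monomial, Finsupp.prod_fintype _ _ (fun _ => pow_zero _)]]
    have hprod : ∏ i, g i ^ e i = (↑u0⁻¹ : T) ^ (e.sum fun _ n => n) *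
        ∏ i ∈ (Finset.univ.erase (0 : Fin (t + 1))), algebraMap P T (X i) ^ e i := by
      rw [← Finset.mul_prod_erase Finset.univ _ (Finset.mem_univ (0 : Fin (t + 1)))]
      rw [Finsupp.sum_fintype _ _ (fun _ => rfl), ← Finset.add_sum_erase Finset.univ _ (Finset.mem_univ (0 : Fin (t + 1))),
        pow_add, ← Finset.prod_pow_eq_pow_sum, mul_assoc, ← Finset.prod_mul_distrib]
      congr 1
      refine Finset.prod_congr rfl fun i hi => ?_
      rw [show g i = algebraMap P T (X i) * ↑u0⁻¹ from if_neg (Finset.mem_erase.1 hi).1, mul_pow, mul_comm]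
    have hpowu : (↑u0⁻¹ : T) ^ (e.sum fun _ n => n) * (u0 : T) ^ d = (u0 : T) ^ (d - e.sum fun _ n => n) := by
      obtain ⟨m, hm⟩ := Nat.exists_eq_add_of_le hle
      rw [hm, Nat.add_sub_cancel_left, pow_add, ← mul_assoc, ← mul_pow, Units.inv_mul, one_pow, one_mul]
    rw [hprod]
    simp only [z, map_mul, map_pow, map_prod, ← hu0]
    rw [show algebraMap P T (C (p.coeff e)) = algebraMap k T (p.coeff e) by
      rw [IsScalarTower.algebraMap_apply k P T]; rfl, ← hpowu]
    ring
  have h2 : (∑ e ∈ p.support, z e) * (s : P) = a * X 0 ^ d := by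
    refine IsFractionRing.injective P F ?_
    rw [map_mul, map_mul, ← hγ (∑ e ∈ p.support, z e), ← hθp, map_mul γ, map_pow γ, hu0, hγ, map_pow,
      ← h1]
    ring
  have h3 : (∑ e ∈ p.support, z e) ∈ Q := by
    refine (hQ.mem_or_mem ?_).resolve_right s.2
    rw [h2]
    exact Q.mul_mem_left _ (Ideal.pow_mem_of_mem _ (Ideal.mem_span_singleton_self _) _ (Nat.pos_of_ne_zero hpd))
  obtain ⟨w, hw⟩ := Ideal.mem_span_singleton.1 h3
  obtain ⟨e, he, hemax⟩ : ∃ e ∈ p.support, (e.sum fun _ n => n) = d := by
    have hne : p.support.Nonempty := by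
      rw [Finset.nonempty_iff_ne_empty, Ne, support_eq_empty]
      intro h; exact hpd (by rw [hd, h, totalDegree_zero])
    obtain ⟨e, he, h⟩ := Finset.exists_mem_eq_sup p.support hne (fun e => e.sum fun _ n => n)
    exact ⟨e, he, h.symm⟩
  have hmon : ∀ e', z e' = monomial (Finsupp.single (0 : Fin (t + 1)) (d - e'.sum fun _ n => n) + e'.erase 0) (p.coeff e') := by
    intro e'
    rw [MvPolynomial.monomial_eq, Finsupp.prod_fintype _ _ (fun _ => pow_zero _),
      ← Finset.mul_prod_erase Finset.univ _ (Finset.mem_univ (0 : Fin (t + 1))), ← mul_assoc]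
    simp only [z, Finsupp.add_apply, Finsupp.single_eq_same, Finsupp.erase_same, add_zero]
    refine congrArg₂ _ rfl (Finset.prod_congr rfl fun i hi => ?_)
    simp [Finsupp.erase_ne (Finset.mem_erase.1 hi).1, (Finset.mem_erase.1 hi).1]
  have hcoef : (∑ e' ∈ p.support, z e').coeff (e.erase 0) = p.coeff e := by
    rw [coeff_sum, Finset.sum_eq_single e]
    · rw [hmon, hemax, Nat.sub_self, Finsupp.single_zero, zero_add, coeff_monomial, if_pos rfl]
    · intro e' he' hne
      rw [hmon, coeff_monomial, if_neg]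
      intro heq
      apply hne
      have h0 := DFunLike.congr_fun heq 0
      simp only [Finsupp.add_apply, Finsupp.single_eq_same, Finsupp.erase_same, add_zero] at h0
      have hi : ∀ i, i ≠ 0 → e' i = e i := fun i hi => by
        have := DFunLike.congr_fun heq i
        simpa [Finsupp.erase_ne hi, hi] using this
      have hle : (e'.sum fun _ n => n) ≤ d := le_totalDegree he'
      have hsum' : (e'.sum fun _ n => n) = d := by omega
      refine Finsupp.ext fun i => ?_
      by_cases h : i = 0
      · subst h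
        rw [← hemax, Finsupp.sum_fintype _ _ (fun _ => rfl), Finsupp.sum_fintype _ _ (fun _ => rfl),
          ← Finset.add_sum_erase Finset.univ _ (Finset.mem_univ (0 : Fin (t + 1))),
          ← Finset.add_sum_erase Finset.univ _ (Finset.mem_univ (0 : Fin (t + 1)))] at hsum'
        have hS : ∑ j ∈ Finset.univ.erase (0 : Fin (t + 1)), e' j = ∑ j ∈ Finset.univ.erase (0 : Fin (t + 1)), e j :=
          Finset.sum_congr rfl fun j hj => hi j (Finset.mem_erase.1 hj).1
        linarith [hsum', hS]
      · exact hi i h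
    · exact fun h => absurd he h
  have : (∑ e' ∈ p.support, z e').coeff (e.erase 0) = 0 := by
    rw [hw, coeff_X_mul', if_neg]
    simp
  rw [hcoef] at this
  exact (mem_support_iff.1 he) this

theorem exists_hom_isAlgebraic (k : Type u) [Field k] (A : Type u) [CommRing A] [IsDomain A]
    [Algebra k A] [Algebra.FiniteType k A] :
    ∃ (n : ℕ) (Φ : Aˣ →* Multiplicative (Fin n → ℤ)), ∀ x : Aˣ, Φ x = 1 → IsIntegral k (x : A) := by
  classical
  obtain ⟨s, φ, hφi, hφf⟩ := exists_finite_inj_algHom_of_fg k A
  let P := MvPolynomial (Fin s) k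
  let _ : Algebra P A := φ.toRingHom.toAlgebra
  have : IsScalarTower k P A := IsScalarTower.of_algebraMap_eq fun c => (φ.commutes c).symm
  have hfin : Module.Finite P A := hφf
  rcases s with _ | t
  · refine ⟨0, 1, fun x _ => isIntegral_trans (A := P) _ (IsIntegral.of_finite P _)⟩
  let F := FractionRing P
  let L := FractionRing A
  obtain ⟨R, _, _, _, ι, hFR, hPR⟩ := exists_dvr_at_infinity k t
  have : FaithfulSMul P A := (faithfulSMul_iff_algebraMap_injective _ _).2 hφi
  let _ : Algebra F L := FractionRing.liftAlgebra P L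
  have : IsScalarTower P F L := FractionRing.isScalarTower_liftAlgebra P L
  have : FiniteDimensional F L := Module.Finite.of_isLocalization P A (nonZeroDivisors P)
  let _ : Algebra R F := ι.toAlgebra
  let _ : Algebra R L := ((algebraMap F L).comp ι).toAlgebra
  have : IsScalarTower R F L := IsScalarTower.of_algebraMap_eq' rfl
  obtain ⟨n, Φ, hΦ⟩ := exists_hom_detect R F L
  refine ⟨n, Φ.comp (Units.map (algebraMap A L : A →* L)), fun x hx => ?_⟩
  have hR : IsIntegral R (algebraMap A L x) := hΦ _ hx
  have hP : IsIntegral P (x : A) := IsIntegral.of_finite P _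
  have hmin := minpoly.isIntegrallyClosed_eq_field_fractions F L hP
  have hminR := minpoly.isIntegrallyClosed_eq_field_fractions' F (R := R) hR
  have hconst : ∀ i, ∃ c : k, (minpoly P (x : A)).coeff i = C c := fun i => by
    refine hPR _ ((minpoly R (algebraMap A L x)).coeff i) ?_
    have := congrArg (fun q : Polynomial F => q.coeff i) (hmin.symm.trans hminR)
    simp only [Polynomial.coeff_map] at this
    exact this
  choose c hc using hconst
  refine ⟨Polynomial.X ^ (minpoly P (x : A)).natDegree + ∑ i ∈ Finset.range (minpoly P (x : A)).natDegree,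
      Polynomial.C (c i) * Polynomial.X ^ i, Polynomial.monic_X_pow_add
        (lt_of_le_of_lt (Polynomial.degree_sum_le _ _) ((Finset.sup_lt_iff (WithBot.bot_lt_coe _)).2
          fun i hi => lt_of_le_of_lt (Polynomial.degree_C_mul_X_pow_le _ _)
            (WithBot.coe_lt_coe.2 (Finset.mem_range.1 hi)))), ?_⟩
  rw [Polynomial.eval₂_add, Polynomial.eval₂_X_pow, Polynomial.eval₂_finsetSum]
  simp only [Polynomial.eval₂_mul, Polynomial.eval₂_C, Polynomial.eval₂_X_pow]
  have h0 := minpoly.aeval P (x : A)
  rw [Polynomial.aeval_eq_sum_range, Finset.sum_range_succ, (minpoly.monic hP).coeff_natDegree,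
    one_smul, add_comm] at h0
  rw [← h0]
  refine congrArg₂ (· + ·) rfl (Finset.sum_congr rfl fun i _ => ?_)
  rw [hc i, Algebra.smul_def, ← MvPolynomial.algebraMap_eq, ← IsScalarTower.algebraMap_apply]

end Groth.Agent.UnitsFG
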