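import Mathlib

/-!
# Finitely many valuations detecting integrality over a DVR in a finite extension
-/

set_option autoImplicit false

universe u

open IsDedekindDomain

namespace Groth.Agent.UnitsFG

/-- The valuation of a nonzero element, as a group homomorphism. -/
noncomputable def unitVal {B : Type u} [CommRing B] [IsDedekindDomain B] {K : Type u} [Field K]
    [Algebra B K] [IsFractionRing B K] (v : HeightOneSpectrum B) : Kˣ →* Multiplicative ℤ :=
  (WithZero.unitsWithZeroEquiv).toMonoidHom.comp (Units.map (v.valuation K).toMonoidWithZeroHom.toMonoidHom)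

theorem unitVal_eq_one {B : Type u} [CommRing B] [IsDedekindDomain B] {K : Type u} [Field K]
    [Algebra B K] [IsFractionRing B K] (v : HeightOneSpectrum B) (z : Kˣ) :
    unitVal v z = 1 ↔ v.valuation K z = 1 := by
  simp only [unitVal, MonoidHom.comp_apply, MulEquiv.coe_toMonoidHom, MulEquiv.map_eq_one_iff,
    Units.ext_iff]
  rfl

theorem pow_finrank_eq_norm (F L : Type u) [Field F] [Field L] [Algebra F L] [FiniteDimensional F L]
    [IsPurelyInseparable F L] (x : L) :
    algebraMap F L (Algebra.norm F x) = x ^ Module.finrank F L := by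
  obtain ⟨q, hq⟩ := ExpChar.exists F
  obtain ⟨n, a, ha⟩ := IsPurelyInseparable.pow_mem F q x
  have := expChar_of_injective_algebraMap (algebraMap F L).injective q
  refine iterateFrobenius_inj L q n ?_
  show algebraMap F L (Algebra.norm F x) ^ q ^ n = (x ^ Module.finrank F L) ^ q ^ n
  rw [← map_pow, ← map_pow, ← ha, Algebra.norm_algebraMap, map_pow, ha, ← pow_mul, ← pow_mul,
    mul_comm]

theorem exists_hom_detect (R : Type u) [CommRing R] [IsDomain R] [IsDiscreteValuationRing R]
    (F : Type u) [Field F] [Algebra R F] [IsFractionRing R F]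
    (L : Type u) [Field L] [Algebra F L] [FiniteDimensional F L] [Algebra R L] [IsScalarTower R F L] :
    ∃ (n : ℕ) (Φ : Lˣ →* Multiplicative (Fin n → ℤ)),
      ∀ x : Lˣ, Φ x = 1 → IsIntegral R (x : L) := by
  classical
  let E := separableClosure F L
  have : IsScalarTower R E L := IsScalarTower.of_algebraMap_eq fun r =>
    by rw [IsScalarTower.algebraMap_apply R F E, ← IsScalarTower.algebraMap_apply F E L,
      ← IsScalarTower.algebraMap_apply R F L]
  let B := integralClosure R E
  have : IsDedekindDomain B := integralClosure.isDedekindDomain R F E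
  have : IsFractionRing B E := integralClosure.isFractionRing_of_finite_extension F E
  obtain ⟨π, hπ⟩ := IsDiscreteValuationRing.exists_irreducible R
  have hinjR : Function.Injective (algebraMap R E) := by
    rw [IsScalarTower.algebraMap_eq R F E]
    exact (algebraMap F E).injective.comp (IsFractionRing.injective R F)
  have hI : Ideal.span {algebraMap R B π} ≠ 0 := by
    rw [Ne, ← Ideal.zero_eq_bot.symm, Ideal.span_singleton_eq_bot]
    intro h
    have h1 : algebraMap R E π = 0 := congrArg Subtype.val h
    exact hπ.ne_zero (hinjR (h1.trans (map_zero _).symm))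
  have hall : ∀ v : HeightOneSpectrum B, v.asIdeal ∣ Ideal.span {algebraMap R B π} := by
    intro v
    rw [Ideal.dvd_iff_le, Ideal.span_le, Set.singleton_subset_iff, SetLike.mem_coe]
    have := v.isMaximal
    have h1 : (v.asIdeal.comap (algebraMap R B)).IsMaximal :=
      Ideal.isMaximal_comap_of_isIntegral_of_isMaximal v.asIdeal
    have h2 : π ∈ v.asIdeal.comap (algebraMap R B) := by
      rw [IsLocalRing.eq_maximalIdeal h1, hπ.maximalIdeal_eq]
      exact Ideal.mem_span_singleton_self π
    exact h2
  have : Finite (HeightOneSpectrum B) :=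
    Set.finite_univ_iff.1 ((Ideal.finite_factors hI).subset fun v _ => hall v)
  let e := Finite.equivFin (HeightOneSpectrum B)
  let N : Lˣ →* Eˣ := Units.map (Algebra.norm E)
  let Φ : Lˣ →* Multiplicative (Fin (Nat.card (HeightOneSpectrum B)) → ℤ) :=
    { toFun := fun x => Multiplicative.ofAdd fun i => Multiplicative.toAdd (unitVal (e.symm i) (N x))
      map_one' := by simp; rfl
      map_mul' := fun x y => by simp [← ofAdd_add]; rfl }
  refine ⟨_, Φ, fun x hx => ?_⟩
  have hv : ∀ v : HeightOneSpectrum B, v.valuation E (N x : E) = 1 := fun v => by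
    rw [← unitVal_eq_one]
    have := congrFun (Multiplicative.ofAdd.injective (hx.trans rfl : Φ x = Multiplicative.ofAdd 0)) (e v)
    simpa using this
  obtain ⟨b, hb⟩ := HeightOneSpectrum.mem_integers_of_valuation_le_one E (N x : E) fun v => (hv v).le
  have hb' : IsIntegral R (N x : E) := hb ▸ b.2
  have h2 := hb'.map (IsScalarTower.toAlgHom R E L)
  have h3 : IsIntegral R ((x : L) ^ Module.finrank E L) := by
    rw [← pow_finrank_eq_norm E L (x : L)]
    exact h2
  exact h3.of_pow Module.finrank_pos

end Groth.Agent.UnitsFG
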